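import Cfsg.Agent.Lib.KnownB.LyG25.Data
import Cfsg.Agent.Lib.Spor.Ly.Rep
import Cfsg.Agent.Lib.Spor.Ly.KFaithful
import Cfsg.Agent.Lib.KnownB.LyCent.SimpleK
import Cfsg.Agent.Lib.Chev.Orders
import Cfsg.Agent.Lib.Chev.OrderTypes

/-!
The group on `a, b, c, d` is isomorphic to the group of type G2 over five elements.
-/

set_option autoImplicit false
set_option maxRecDepth 100000

namespace CfsgLib.KnownB.LyG25

open Cfsg.Lie CfsgLib.Chev CfsgLib.DCE CfsgLib.Spor.Ly CfsgLib.Spor.Ly.Five

instance five_prime : Fact (Nat.Prime 5) := ⟨by decide⟩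

/-- the index set of the matrices -/
def ix : Fin 14 ≃ chevG2.Idx := (finSumFinEquiv : Fin 2 ⊕ Fin 12 ≃ Fin (2 + 12)).symm

theorem gens_ok : okGens 14 gMats 4 = true := by decide +kernel

theorem roots_ok : okGens 14 xMats 24 = true := by decide +kernel

theorem rels_ok : okRelsF 14 gMats 4 RK = true := by decide +kernel

theorem words_ok : ((List.range 4).all fun k =>
    ((gWords.getD k []).all fun x => Nat.blt x 48) &&
      Nat.beq (evalF 14 xMats (gWords.getD k [])) (letM gMats (2 * k))) = true := by decide +kernel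

theorem xroots_lt : (xRoots.all fun p => Nat.blt p.1 12) = true ∧ xRoots.length = 24 := by
  decide +kernel

theorem xmat_ok : ∀ k : Fin 24, ∀ i j : Fin 14,
    ((lane 16 (14 * i + j) (letM xMats (2 * k)) : ℕ) : ZMod 5) =
      chevG2.xMat (ZMod 5) ⟨(xRoots.getD k (0, 0)).1 % 12, Nat.mod_lt _ (by decide)⟩
        ((xRoots.getD k (0, 0)).2 : ZMod 5) (ix i) (ix j) := by
  decide +kernel

/-- the generators -/
theorem gSet : GenSet 14 4 gMats := GenSet.of_ok gens_ok

/-- the root elements -/
theorem xSet : GenSet 14 24 xMats := GenSet.of_ok roots_ok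

/-- invertible matrices on the index set of the group of type G2 -/
noncomputable def toG2 : GL (Fin 14) (ZMod 5) →* GL chevG2.Idx (ZMod 5) :=
  Units.map (Matrix.reindexAlgEquiv (ZMod 5) (ZMod 5) ix).toMonoidHom

theorem toG2_val (g : GL (Fin 14) (ZMod 5)) (i j : chevG2.Idx) :
    (toG2 g : Matrix chevG2.Idx chevG2.Idx (ZMod 5)) i j =
      (g : Matrix (Fin 14) (Fin 14) (ZMod 5)) (ix.symm i) (ix.symm j) := rfl

theorem toG2_injective : Function.Injective toG2 :=
  Units.map_injective (Matrix.reindexAlgEquiv (ZMod 5) (ZMod 5) ix).injective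

theorem root_mem (k : Fin 24) : toG2 (xSet.gen k) ∈ chevG2.group (ZMod 5) := by
  refine Subgroup.subset_closure ⟨⟨(xRoots.getD k (0, 0)).1 % 12, Nat.mod_lt _ (by decide)⟩,
    ((xRoots.getD k (0, 0)).2 : ZMod 5), ?_⟩
  ext i j
  obtain ⟨i, rfl⟩ := ix.surjective i
  obtain ⟨j, rfl⟩ := ix.surjective j
  rw [toG2_val, Equiv.symm_apply_apply, Equiv.symm_apply_apply]
  exact xmat_ok k i j

/-- the representation of the group on `a, b, c, d` -/
noncomputable def rho : GrpK →* GL chevG2.Idx (ZMod 5) := toG2.comp (gSet.rep rels_ok)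

theorem rho_mem (g : GrpK) : rho g ∈ chevG2.group (ZMod 5) := by
  have key : ∀ k : Fin 4, rho (Grp.gen k) ∈ chevG2.group (ZMod 5) := fun k => by
    have h := List.all_eq_true.1 words_ok k (List.mem_range.2 k.2)
    simp only [Bool.and_eq_true, List.all_eq_true, Nat.blt_eq] at h
    have e : gSet.gen k = wv xSet.gen (gWords.getD k []) := Units.ext <| by
      rw [xSet.coe_wv _ h.1, Nat.eq_of_beq_eq_true h.2]
      rfl
    show toG2 (gSet.rep rels_ok (Grp.gen k)) ∈ _
    rw [GenSet.rep_gen, e, map_wv]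
    unfold wv
    refine Subgroup.list_prod_mem _ fun x hx => ?_
    obtain ⟨l, -, rfl⟩ := List.mem_map.1 hx
    unfold lv
    split_ifs
    · exact root_mem _
    · exact inv_mem (root_mem _)
    · exact one_mem _
  have hg : g ∈ Subgroup.closure (Set.range permsK.gen) := by rw [gen_top_k]; trivial
  induction hg using Subgroup.closure_induction with
  | mem x hx => obtain ⟨k, rfl⟩ := hx; exact key k
  | one => rw [map_one]; exact one_mem _
  | mul a b _ _ ha hb => rw [map_mul]; exact mul_mem ha hb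
  | inv a _ ha => rw [map_inv]; exact inv_mem ha

theorem card_group : Nat.card ↥(chevG2.group (ZMod 5)) = 5859000000 := by
  have h := order_formula (F := ZMod 5) stdG2 weylOKG2 smithG2 poinG2 (ZMod.card 5)
  have hd : (∏ i : Fin chevG2.rank, Nat.gcd ((![1, 1] : Fin 2 → ℕ) i) (5 - 1)) = 1 :=
    Finset.prod_eq_one fun (i : Fin 2) _ => by fin_cases i <;> simp
  rw [hd, one_mul] at h
  rw [h]
  rfl

theorem rho_ne : rho (Grp.gen 0) ≠ 1 := fun h => by
  have := congrArg (fun g : GL (Fin 14) (ZMod 5) => (g : Matrix (Fin 14) (Fin 14) (ZMod 5)))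
    (toG2_injective (h.trans (map_one toG2).symm))
  rw [GenSet.rep_gen] at this
  revert this
  show toM 14 (letM gMats 0) ≠ 1
  decide +kernel

/-- the isomorphism -/
theorem nonempty_equiv : Nonempty (GrpK ≃* ↥(chevG2.group (ZMod 5))) := by
  have : Finite GrpK := gk_finite
  have := CfsgLib.KnownB.LyCent.isSimpleGroup_K permsK k_faithful.2 gen_top_k k_faithful.1
  let f : GrpK →* ↥(chevG2.group (ZMod 5)) := rho.codRestrict _ rho_mem
  have hinj : Function.Injective f := by
    rw [← MonoidHom.ker_eq_bot_iff]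
    rcases (inferInstance : f.ker.Normal).eq_bot_or_eq_top with h | h
    · exact h
    · exfalso
      have h0 : Grp.gen 0 ∈ f.ker := h ▸ Subgroup.mem_top _
      exact rho_ne (congrArg Subtype.val (MonoidHom.mem_ker.1 h0))
  haveI : Finite ↥(chevG2.group (ZMod 5)) :=
    Nat.finite_of_card_ne_zero (by rw [card_group]; norm_num)
  exact ⟨MulEquiv.ofBijective f
    ((Nat.bijective_iff_injective_and_card f).2 ⟨hinj, by rw [k_faithful.2, card_group]⟩)⟩

end CfsgLib.KnownB.LyG25
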