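import Cfsg.Agent.Lib.Spor.Ly.Order
import Cfsg.Agent.Lib.KnownB.LyG25.Iso

/-!
The subgroup on `a, b, c, d` of the presented Lyons group.
-/

set_option autoImplicit false

namespace CfsgLib.KnownB.LyG25

open CfsgLib.DCE CfsgLib.Spor.Ly

theorem closure_map_eq :
    (Subgroup.closure ({Cfsg.Spor.Ly.a, Cfsg.Spor.Ly.b, Cfsg.Spor.Ly.c, Cfsg.Spor.Ly.d} :
      Set (FreeGroup Cfsg.Spor.Ly.Gen))).map (PresentedGroup.mk
        (Cfsg.Spor.coxRelators Cfsg.Spor.Ly.edges ∪ {r | r ∈ Cfsg.Spor.Ly.extra})) = psiK.range := by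
  rw [MonoidHom.map_closure, MonoidHom.range_eq_map, ← Grp.closure_gen (rels := RK),
    MonoidHom.map_closure]
  congr 1
  ext g
  simp only [Set.mem_image, Set.mem_range, Set.mem_insert_iff, Set.mem_singleton_iff]
  constructor
  · rintro ⟨r, rfl | rfl | rfl | rfl, rfl⟩
    · exact ⟨Grp.gen 0, ⟨0, rfl⟩, psiK_gen 0⟩
    · exact ⟨Grp.gen 1, ⟨1, rfl⟩, psiK_gen 1⟩
    · exact ⟨Grp.gen 2, ⟨2, rfl⟩, psiK_gen 2⟩
    · exact ⟨Grp.gen 3, ⟨3, rfl⟩, psiK_gen 3⟩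
  · rintro ⟨_, ⟨k, rfl⟩, rfl⟩
    rw [psiK_gen]
    fin_cases k
    · exact ⟨_, Or.inl rfl, rfl⟩
    · exact ⟨_, Or.inr (Or.inl rfl), rfl⟩
    · exact ⟨_, Or.inr (Or.inr (Or.inl rfl)), rfl⟩
    · exact ⟨_, Or.inr (Or.inr (Or.inr rfl)), rfl⟩

end CfsgLib.KnownB.LyG25
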